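import Groth.Agent.ConeFibreLib.Generic
import Groth.Agent.GrModLib.Dehom
import Groth.Agent.PConeTwistLib.Basic
import Groth.Agent.S3575
import Groth.Agent.S3596
import Groth.Prelude.Def_Cone

/-! The retractions of the pointed affine and projective cones: charts and fibres. -/

set_option autoImplicit false
set_option linter.style.haveILetI false
set_option backward.isDefEq.respectTransparency false

universe u

open CategoryTheory CategoryTheory.Limits AlgebraicGeometry HomogeneousLocalization TopologicalSpace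
open scoped DirectSum

noncomputable section

namespace Groth.Agent.ConeFibreLib

section graded

variable {A σ : Type u} [CommRing A] [SetLike σ A] [AddSubgroupClass σ A] {𝒜 : ℕ → σ} [GradedRing 𝒜]
variable {f : A} (hf : f ∈ 𝒜 1)

/-- Dehomogenisation at `f`. -/
def deh : A →+* Away 𝒜 f :=
  (DirectSum.toSemiring (GrModLib.awayPiece hf) (by
      apply HomogeneousLocalization.val_injective
      rw [GrModLib.awayPiece, AddMonoidHom.mk'_apply, Away.val_mk, HomogeneousLocalization.val_one,
        ← Localization.mk_one]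
      exact congrArg₂ Localization.mk rfl (Subtype.ext (pow_zero f))) (fun {i j} a b => by
      apply HomogeneousLocalization.val_injective
      rw [HomogeneousLocalization.val_mul, GrModLib.awayPiece, GrModLib.awayPiece, GrModLib.awayPiece,
        AddMonoidHom.mk'_apply, AddMonoidHom.mk'_apply, AddMonoidHom.mk'_apply, Away.val_mk, Away.val_mk,
        Away.val_mk, Localization.mk_mul]
      congr 1
      exact Subtype.ext (pow_add f i j))).comp (DirectSum.decomposeRingEquiv 𝒜).toRingHom

theorem deh_hom {e : ℕ} {a : A} (ha : a ∈ 𝒜 e) : deh hf a = Away.mk 𝒜 hf e a (by simpa using ha) := by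
  have h : (DirectSum.decomposeRingEquiv 𝒜).toRingHom a = DirectSum.of (fun i => 𝒜 i) e ⟨a, ha⟩ :=
    DirectSum.decompose_of_mem 𝒜 ha
  rw [deh, RingHom.comp_apply, h, DirectSum.toSemiring_of]
  rfl

theorem deh_self : deh hf f = 1 := by
  rw [deh_hom hf hf]
  apply HomogeneousLocalization.val_injective
  rw [Away.val_mk, HomogeneousLocalization.val_one]
  exact (congrArg₂ Localization.mk (pow_one f).symm rfl).trans
    (Localization.mk_self (⟨f ^ 1, 1, rfl⟩ : Submonoid.powers f))

/-- Two ring maps out of a graded ring agree if they agree on homogeneous elements. -/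
theorem ext_homogeneous {S : Type u} [CommRing S] {g g' : A →+* S}
    (h : ∀ (i : ℕ) (a : A), a ∈ 𝒜 i → g a = g' a) : g = g' := by
  classical
  refine RingHom.ext fun a => ?_
  rw [← DirectSum.sum_support_decompose 𝒜 a, map_sum, map_sum]
  exact Finset.sum_congr rfl fun i _ => h i _ (SetLike.coe_mem _)

/-! ### The affine cone -/

open LaurentPolynomial in
/-- `a ↦ ∑ (aᵢ / fⁱ) Tⁱ`. -/
def coact : A →+* LaurentPolynomial (Away 𝒜 f) :=
  (DirectSum.toSemiring (fun i => AddMonoidHom.mk'
      (fun a : 𝒜 i => LaurentPolynomial.C (GrModLib.awayPiece hf i a) * T (i : ℤ))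
      (fun a b => by rw [map_add, map_add, add_mul]))
    (by
      have h : GrModLib.awayPiece (𝒜 := 𝒜) hf 0 (GradedMonoid.GOne.one (A := fun i => ↥(𝒜 i))) = 1 := by
        apply HomogeneousLocalization.val_injective
        rw [GrModLib.awayPiece, AddMonoidHom.mk'_apply, Away.val_mk, HomogeneousLocalization.val_one,
          ← Localization.mk_one]
        exact congrArg₂ Localization.mk rfl (Subtype.ext (pow_zero f))
      simp [h])
    (fun {i j} a b => by
      have h : GrModLib.awayPiece hf (i + j) (GradedMonoid.GMul.mul (A := fun i => ↥(𝒜 i)) a b) =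
          GrModLib.awayPiece hf i a * GrModLib.awayPiece hf j b := by
        apply HomogeneousLocalization.val_injective
        rw [HomogeneousLocalization.val_mul, GrModLib.awayPiece, GrModLib.awayPiece, GrModLib.awayPiece,
          AddMonoidHom.mk'_apply, AddMonoidHom.mk'_apply, AddMonoidHom.mk'_apply, Away.val_mk, Away.val_mk,
          Away.val_mk, Localization.mk_mul]
        congr 1
        exact Subtype.ext (pow_add f i j)
      simp only [AddMonoidHom.mk'_apply, h, map_mul, Nat.cast_add, T_add]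
      ring)).comp (DirectSum.decomposeRingEquiv 𝒜).toRingHom

open LaurentPolynomial in
theorem coact_hom {e : ℕ} {a : A} (ha : a ∈ 𝒜 e) :
    coact hf a = LaurentPolynomial.C (Away.mk 𝒜 hf e a (by simpa using ha)) * T (e : ℤ) := by
  have h : (DirectSum.decomposeRingEquiv 𝒜).toRingHom a = DirectSum.of (fun i => 𝒜 i) e ⟨a, ha⟩ :=
    DirectSum.decompose_of_mem 𝒜 ha
  rw [coact, RingHom.comp_apply, h, DirectSum.toSemiring_of]
  rfl

open LaurentPolynomial in
theorem coact_self : coact hf f = T 1 := by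
  rw [coact_hom hf hf, ← deh_hom hf hf, deh_self, map_one, one_mul]
  rfl

open LaurentPolynomial in
/-- `A_f → A_(f)[T, T⁻¹]`. -/
def thetaL : Localization.Away f →+* LaurentPolynomial (Away 𝒜 f) :=
  IsLocalization.Away.lift f (g := coact hf) (by rw [coact_self]; exact LaurentPolynomial.isUnit_T 1)

/-- `A_(f)[T, T⁻¹] → A_f`. -/
def psiL (hf : f ∈ 𝒜 1) : LaurentPolynomial (Away 𝒜 f) →+* Localization.Away f :=
  LaurentPolynomial.eval₂ (algebraMap (Away 𝒜 f) (Localization.Away f))
    (IsLocalization.Away.algebraMap_isUnit (S := Localization.Away f) f).unit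

open LaurentPolynomial in
theorem thetaL_val (c : Away 𝒜 f) :
    thetaL hf (algebraMap (Away 𝒜 f) (Localization.Away f) c) = LaurentPolynomial.C c := by
  obtain ⟨k, a, ha, rfl⟩ := Away.mk_surjective 𝒜 hf c
  have ha' : a ∈ 𝒜 k := by simpa using ha
  have h1 : algebraMap (Away 𝒜 f) (Localization.Away f) (Away.mk 𝒜 hf k a ha) * algebraMap A _ (f ^ k) =
      algebraMap A (Localization.Away f) a := by
    rw [HomogeneousLocalization.algebraMap_apply, Away.val_mk, ← Localization.mk_one_eq_algebraMap,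
      ← Localization.mk_one_eq_algebraMap, Localization.mk_mul, Localization.mk_eq_mk_iff,
      Localization.r_iff_exists]
    exact ⟨1, by simp [mul_comm]⟩
  have h2 := congrArg (thetaL hf) h1
  rw [map_mul, thetaL, IsLocalization.Away.lift_eq, IsLocalization.Away.lift_eq, map_pow, coact_self,
    coact_hom hf ha', LaurentPolynomial.T_pow, mul_one] at h2
  exact ((LaurentPolynomial.isUnit_T (k : ℤ)).mul_left_inj.1 h2)

open LaurentPolynomial in
theorem thetaL_psiL : (thetaL hf).comp (psiL hf) = RingHom.id _ := by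
  refine laurent_hom_ext (fun c => ?_) ?_
  · rw [RingHom.comp_apply, psiL, LaurentPolynomial.eval₂_C, thetaL_val]
    rfl
  · rw [RingHom.comp_apply, psiL, eval₂_T_one, IsUnit.unit_spec, thetaL, IsLocalization.Away.lift_eq, coact_self]
    rfl

open LaurentPolynomial in
theorem psiL_thetaL : (psiL hf).comp (thetaL hf) = RingHom.id _ := by
  refine IsLocalization.ringHom_ext (Submonoid.powers f) (ext_homogeneous (𝒜 := 𝒜) fun i a ha => ?_)
  simp only [RingHom.comp_apply, RingHom.id_apply]
  rw [thetaL, IsLocalization.Away.lift_eq, coact_hom hf ha, map_mul, psiL, LaurentPolynomial.eval₂_C,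
    LaurentPolynomial.eval₂_T_n, IsUnit.unit_spec, HomogeneousLocalization.algebraMap_apply, Away.val_mk,
    ← map_pow, ← Localization.mk_one_eq_algebraMap, ← Localization.mk_one_eq_algebraMap, Localization.mk_mul,
    Localization.mk_eq_mk_iff, Localization.r_iff_exists]
  exact ⟨1, by simp [mul_comm]⟩

theorem isIso_thetaL : IsIso (Spec.map (CommRingCat.ofHom (thetaL hf))) :=
  ⟨Spec.map (CommRingCat.ofHom (psiL hf)), by
    rw [← Spec.map_comp, ← CommRingCat.ofHom_comp, thetaL_psiL, CommRingCat.ofHom_id, Spec.map_id], by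
    rw [← Spec.map_comp, ← CommRingCat.ofHom_comp, psiL_thetaL, CommRingCat.ofHom_id, Spec.map_id]⟩

/-! ### The projective cone -/

variable {B τ : Type u} [CommRing B] [SetLike τ B] [AddSubgroupClass τ B] {ℬ : ℕ → τ} [GradedRing ℬ] [Algebra A B]
  (φ : 𝒜 →+*ᵍ ℬ) (hφ : ∀ a : A, φ a = algebraMap A B a)
  {z : B} (hz : z ∈ ℬ 1) (hhat : Function.Bijective (Polynomial.aeval (R := A) z))

/-- `B → A_(f)[T]`. -/
def deltaP : B →+* Polynomial (Away 𝒜 f) :=
  (Polynomial.mapRingHom (deh hf)).comp (RingEquiv.ofBijective (Polynomial.aeval (R := A) z).toRingHom hhat).symm.toRingHom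

theorem deltaP_aeval (q : Polynomial A) : deltaP hf hhat (Polynomial.aeval z q) = q.map (deh hf) := by
  show Polynomial.map (deh hf) ((RingEquiv.ofBijective _ hhat).symm (Polynomial.aeval z q)) = _
  exact congrArg (Polynomial.map (deh hf))
    ((RingEquiv.ofBijective (Polynomial.aeval (R := A) z).toRingHom hhat).symm_apply_apply q)

include hφ in
theorem deltaP_φ (a : A) : deltaP hf hhat (φ a) = Polynomial.C (deh hf a) := by
  have := deltaP_aeval hf hhat (Polynomial.C a)
  rwa [Polynomial.aeval_C, Polynomial.map_C, ← hφ] at this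

theorem deltaP_z : deltaP hf hhat z = Polynomial.X := by
  simpa using deltaP_aeval hf hhat Polynomial.X

include hφ in
theorem deltaP_self : deltaP hf hhat (φ f) = 1 := by
  rw [deltaP_φ hf φ hφ hhat, deh_self, map_one]

/-- `B_(φ f) → A_(f)[T]`. -/
def thetaP : Away ℬ (φ f) →+* Polynomial (Away 𝒜 f) :=
  (IsLocalization.Away.lift (φ f) (S := Localization.Away (φ f)) (g := deltaP hf hhat)
    (by rw [deltaP_self hf φ hφ hhat]; exact isUnit_one)).comp
    (algebraMap (Away ℬ (φ f)) (Localization.Away (φ f)))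

/-- `A_(f)[T] → B_(φ f)`. -/
def psiP : Polynomial (Away 𝒜 f) →+* Away ℬ (φ f) :=
  Polynomial.eval₂RingHom (Away.map φ f) (Away.mk ℬ (φ.2 hf) 1 z (by simpa using hz))

theorem thetaP_mk (k : ℕ) (b : B) (hb : b ∈ ℬ (k • 1)) :
    thetaP hf φ hφ hhat (Away.mk ℬ (φ.2 hf) k b hb) = deltaP hf hhat b := by
  have h1 : algebraMap (Away ℬ (φ f)) (Localization.Away (φ f)) (Away.mk ℬ (φ.2 hf) k b hb) *
      algebraMap B _ (φ f ^ k) = algebraMap B (Localization.Away (φ f)) b := by
    rw [HomogeneousLocalization.algebraMap_apply, Away.val_mk, ← Localization.mk_one_eq_algebraMap,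
      ← Localization.mk_one_eq_algebraMap, Localization.mk_mul, Localization.mk_eq_mk_iff,
      Localization.r_iff_exists]
    exact ⟨1, by simp [mul_comm]⟩
  have h2 := congrArg (IsLocalization.Away.lift (φ f) (S := Localization.Away (φ f)) (g := deltaP hf hhat)
    (by rw [deltaP_self hf φ hφ hhat]; exact isUnit_one)) h1
  rw [map_mul, IsLocalization.Away.lift_eq, IsLocalization.Away.lift_eq, map_pow] at h2
  refine Eq.trans ?_ h2
  show _ = _
  simp only [deltaP_self hf φ hφ hhat, one_pow, mul_one]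
  rfl

theorem thetaP_map (c : Away 𝒜 f) : thetaP hf φ hφ hhat (Away.map φ f c) = Polynomial.C c := by
  obtain ⟨k, a, ha, rfl⟩ := Away.mk_surjective 𝒜 hf c
  rw [Away.map_mk, thetaP_mk, deltaP_φ hf φ hφ hhat, deh_hom hf (by simpa using ha : a ∈ 𝒜 k)]

theorem thetaP_psiP : (thetaP hf φ hφ hhat).comp (psiP hf φ hz) = RingHom.id _ := by
  refine Polynomial.ringHom_ext (fun c => ?_) ?_
  · simp [psiP, thetaP_map]
  · simp [psiP, thetaP_mk, deltaP_z]

include hφ in
theorem psiP_deltaP : (psiP hf φ hz).comp (deltaP hf hhat) = deh (φ.2 hf) := by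
  refine RingHom.ext fun b => ?_
  obtain ⟨q, rfl⟩ := hhat.2 b
  rw [RingHom.comp_apply, deltaP_aeval]
  have key : ((psiP hf φ hz).comp (Polynomial.mapRingHom (deh hf))) =
      (deh (φ.2 hf)).comp (Polynomial.aeval (R := A) z).toRingHom := by
    refine Polynomial.ringHom_ext (fun a => ?_) ?_
    · have e : (Away.map φ f).comp (deh hf) = (deh (φ.2 hf)).comp φ.toRingHom :=
        ext_homogeneous (𝒜 := 𝒜) fun i x hx => by
          show Away.map φ f (deh hf x) = deh (φ.2 hf) (φ x)
          rw [deh_hom hf hx, Away.map_mk]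
          exact (deh_hom (φ.2 hf) (φ.2 hx)).symm
      show psiP hf φ hz ((Polynomial.C a).map (deh hf)) = deh (φ.2 hf) (Polynomial.aeval z (Polynomial.C a))
      rw [Polynomial.map_C, psiP, Polynomial.coe_eval₂RingHom, Polynomial.eval₂_C, Polynomial.aeval_C, ← hφ]
      exact RingHom.congr_fun e a
    · show psiP hf φ hz (Polynomial.map (deh hf) Polynomial.X) = deh (φ.2 hf) (Polynomial.aeval z Polynomial.X)
      rw [Polynomial.map_X, psiP, Polynomial.coe_eval₂RingHom, Polynomial.eval₂_X, Polynomial.aeval_X, deh_hom _ hz]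
  exact RingHom.congr_fun key q

theorem psiP_thetaP : (psiP hf φ hz).comp (thetaP hf φ hφ hhat) = RingHom.id _ := by
  refine RingHom.ext fun c => ?_
  obtain ⟨k, b, hb, rfl⟩ := Away.mk_surjective ℬ (φ.2 hf) c
  rw [RingHom.comp_apply, thetaP_mk, ← RingHom.comp_apply, psiP_deltaP hf φ hφ hz hhat]
  exact deh_hom (φ.2 hf) (by simpa using hb : b ∈ ℬ k)

include hz in
theorem isIso_thetaP : IsIso (Spec.map (CommRingCat.ofHom (thetaP hf φ hφ hhat))) :=
  ⟨Spec.map (CommRingCat.ofHom (psiP hf φ hz)), by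
    rw [← Spec.map_comp, ← CommRingCat.ofHom_comp, thetaP_psiP, CommRingCat.ofHom_id, Spec.map_id], by
    rw [← Spec.map_comp, ← CommRingCat.ofHom_comp, psiP_thetaP, CommRingCat.ofHom_id, Spec.map_id]⟩

end graded

/-! ### Charts over an affine base -/

section base

variable {R A : Type u} [CommRing R] [CommRing A] [Algebra R A] {𝒜 : ℕ → Submodule R A} [GradedAlgebra 𝒜]
variable {f : A} (hf : f ∈ 𝒜 1)

theorem cone_chart (π : (Cone.pointed 𝒜 : Scheme.{u}) ⟶ Proj 𝒜)
    (hπ : ∀ (d : ℕ) (f : A) (hd : 0 < d) (hf : f ∈ 𝒜 d),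
        Cone.chart hf hd ≫ π =
          Spec.map (CommRingCat.ofHom (algebraMap (HomogeneousLocalization.Away 𝒜 f) (Localization.Away f))) ≫
            Proj.awayι 𝒜 f hf hd) :
    IsPullback (Spec.map (CommRingCat.ofHom (thetaL hf)) ≫ Cone.chart hf one_pos)
      (Spec.map (CommRingCat.ofHom (algebraMap (Away 𝒜 f) (LaurentPolynomial (Away 𝒜 f)))))
      π (Proj.awayι 𝒜 f hf one_pos) := by
  haveI := isIso_thetaL hf
  haveI : IsOpenImmersion (Cone.chart hf one_pos) := by
    haveI : IsOpenImmersion (Cone.chart hf one_pos ≫ (Cone.pointed 𝒜).ι) := by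
      rw [Cone.chart, IsOpenImmersion.lift_fac]
      exact IsOpenImmersion.of_isLocalization f
    exact IsOpenImmersion.of_comp _ (Cone.pointed 𝒜).ι
  have halg : (thetaL hf).comp (algebraMap (Away 𝒜 f) (Localization.Away f)) =
      algebraMap (Away 𝒜 f) (LaurentPolynomial (Away 𝒜 f)) :=
    RingHom.ext fun c => (thetaL_val hf c).trans (LaurentPolynomial.C_eq_algebraMap c)
  refine (IsOpenImmersion.isPullback _ _ _ _ ?_ ?_).flip
  · rw [Category.assoc, hπ, ← Category.assoc, ← Spec.map_comp, ← CommRingCat.ofHom_comp, halg]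
  · rw [Proj.opensRange_awayι, (Groth.Agent.S3575.result 𝒜 π hπ).2.2.1 1 f one_pos hf,
      Scheme.Hom.opensRange_comp_of_isIso]
    refine Opens.ext (Set.ext fun x => ?_)
    have hr := PrimeSpectrum.localization_away_comap_range (Localization.Away f) f
    constructor
    · intro hx
      obtain ⟨q, hq⟩ := hr.ge hx
      refine ⟨q, (Cone.pointed 𝒜).ι.isOpenEmbedding.injective ?_⟩
      rw [← Scheme.Hom.comp_apply, Cone.chart, IsOpenImmersion.lift_fac]
      exact hq
    · rintro ⟨q, rfl⟩
      show (Cone.chart hf one_pos ≫ (Cone.pointed 𝒜).ι) q ∈ Cone.coneOpen f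
      rw [Cone.chart, IsOpenImmersion.lift_fac]
      exact hr.le ⟨q, rfl⟩

variable {B : Type u} [CommRing B] [Algebra R B] {ℬ : ℕ → Submodule R B} [GradedAlgebra ℬ] [Algebra A B]
  (φ : 𝒜 →+*ᵍ ℬ) (hφ : ∀ a : A, φ a = algebraMap A B a)
  {z : B} (hz : z ∈ ℬ 1) (hhat : Function.Bijective (Polynomial.aeval (R := A) z))

include hz in
theorem pcone_chart (p : (PCone.dom φ : Scheme.{u}) ⟶ Proj 𝒜) (hp : ∀ (d : ℕ) (f : A) (hd : 0 < d) (hf : f ∈ 𝒜 d),
    PCone.chart φ hf hd ≫ p =
      Spec.map (CommRingCat.ofHom (HomogeneousLocalization.Away.map φ f)) ≫ Proj.awayι 𝒜 f hf hd) :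
    IsPullback (Spec.map (CommRingCat.ofHom (thetaP hf φ hφ hhat)) ≫ PCone.chart φ hf one_pos)
      (Spec.map (CommRingCat.ofHom (algebraMap (Away 𝒜 f) (Polynomial (Away 𝒜 f)))))
      p (Proj.awayι 𝒜 f hf one_pos) := by
  haveI := isIso_thetaP hf φ hφ hz hhat
  haveI : IsOpenImmersion (PCone.chart φ hf one_pos) := by
    haveI : IsOpenImmersion (PCone.chart φ hf one_pos ≫ (PCone.dom φ).ι) := by
      rw [PCone.chart, IsOpenImmersion.lift_fac]
      infer_instance
    exact IsOpenImmersion.of_comp _ (PCone.dom φ).ι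
  have halg : (thetaP hf φ hφ hhat).comp (Away.map φ f) = algebraMap (Away 𝒜 f) (Polynomial (Away 𝒜 f)) :=
    RingHom.ext fun c => thetaP_map hf φ hφ hhat c
  refine (IsOpenImmersion.isPullback _ _ _ _ ?_ ?_).flip
  · rw [Category.assoc, hp, ← Category.assoc, ← Spec.map_comp, ← CommRingCat.ofHom_comp, halg]
  · rw [Proj.opensRange_awayι, PConeTwistLib.preimage_eq φ p hp one_pos hf, Scheme.Hom.opensRange_comp_of_isIso]
    refine Opens.ext (Set.ext fun x => ?_)
    constructor
    · intro hx
      obtain ⟨q, hq⟩ : (PCone.dom φ).ι x ∈ (Proj.awayι ℬ (φ f) (φ.2 hf) one_pos).opensRange :=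
        (Proj.opensRange_awayι ℬ (φ f) (φ.2 hf) one_pos).ge hx
      refine ⟨q, (PCone.dom φ).ι.isOpenEmbedding.injective ?_⟩
      rw [← Scheme.Hom.comp_apply, PCone.chart, IsOpenImmersion.lift_fac]
      exact hq
    · rintro ⟨q, rfl⟩
      show (PCone.chart φ hf one_pos ≫ (PCone.dom φ).ι) q ∈ Proj.basicOpen ℬ (φ f)
      rw [PCone.chart, IsOpenImmersion.lift_fac, ← Proj.opensRange_awayι ℬ (φ f) (φ.2 hf) one_pos]
      exact ⟨q, rfl⟩

end base

end Groth.Agent.ConeFibreLib
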