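import Mathlib

/-! Fibres of a morphism which is, chart by chart, the structure map of a polynomial-like algebra. -/

set_option autoImplicit false
set_option linter.style.haveILetI false

universe u

open CategoryTheory CategoryTheory.Limits AlgebraicGeometry

noncomputable section

namespace Groth.Agent.ConeFibreLib

theorem fibre_props {E X : Scheme.{u}} (π : E ⟶ X) (T : CommRingCat.{u} → CommRingCat.{u})
    (ι : ∀ C, C ⟶ T C) (hft : ∀ C, (ι C).hom.FiniteType)
    (hpush : ∀ {C K : CommRingCat.{u}} (γ : C ⟶ K), ∃ δ : T C ⟶ T K, IsPushout (ι C) γ δ (ι K))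
    (cov : ∀ x : X, ∃ (C : CommRingCat.{u}) (a : Spec C ⟶ X) (b : Spec (T C) ⟶ E),
      IsOpenImmersion a ∧ x ∈ Set.range a.base ∧ IsPullback b (Spec.map (ι C)) π a) :
    LocallyOfFiniteType π ∧ ∀ x : X, ∃ e : pullback π (X.fromSpecResidueField x) ≅ Spec (T (X.residueField x)),
      e.hom ≫ Spec.map (ι (X.residueField x)) = pullback.snd π (X.fromSpecResidueField x) := by
  choose C a b ha hx hpb using cov
  refine ⟨?_, fun x => ?_⟩
  · refine IsZariskiLocalAtTarget.of_openCover (P := @LocallyOfFiniteType)
      (Scheme.Cover.mkOfCovers (P := @IsOpenImmersion) X (fun x => Spec (C x)) a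
        (fun x => ⟨x, by simpa using hx x⟩) ha) fun (x : X) => ?_
    change LocallyOfFiniteType (pullback.snd π (a x))
    rw [← MorphismProperty.cancel_left_of_respectsIso @LocallyOfFiniteType (hpb x).isoPullback.hom,
      (hpb x).isoPullback_hom_snd, HasRingHomProperty.Spec_iff (P := @LocallyOfFiniteType)]
    exact hft _
  · haveI := ha x
    have hr : Set.range (X.fromSpecResidueField x).base ⊆ Set.range (a x).base := by
      rw [show Set.range (X.fromSpecResidueField x).base = {x} from Scheme.range_fromSpecResidueField x]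
      exact Set.singleton_subset_iff.2 (hx x)
    obtain ⟨δ, hδ⟩ := hpush (Spec.preimage (IsOpenImmersion.lift (a x) (X.fromSpecResidueField x) hr))
    have h1 := isPullback_SpecMap_of_isPushout _ _ _ _ hδ
    rw [Spec.map_preimage] at h1
    have h2 := h1.paste_horiz (hpb x)
    rw [IsOpenImmersion.lift_fac] at h2
    refine ⟨h2.isoPullback.symm, ?_⟩
    rw [Iso.symm_hom, Iso.inv_comp_eq, h2.isoPullback_hom_snd]

/-! ### Polynomials -/

theorem isPushout_polynomial {C K : CommRingCat.{u}} (γ : C ⟶ K) :
    ∃ δ : CommRingCat.of (Polynomial C) ⟶ CommRingCat.of (Polynomial K),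
      IsPushout (CommRingCat.ofHom (algebraMap C (Polynomial C))) γ δ
        (CommRingCat.ofHom (algebraMap K (Polynomial K))) := by
  refine ⟨CommRingCat.ofHom (Polynomial.mapRingHom γ.hom), ?_, ⟨?_⟩⟩
  · constructor
    ext c
    simp
  refine PushoutCocone.IsColimit.mk _ (fun s => CommRingCat.ofHom
    (Polynomial.eval₂RingHom s.inr.hom (s.inl.hom Polynomial.X))) (fun s => ?_) (fun s => ?_) (fun s m h1 h2 => ?_)
  · refine CommRingCat.hom_ext (Polynomial.ringHom_ext (fun c => ?_) ?_)
    · simpa using (ConcreteCategory.congr_hom s.condition c).symm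
    · simp
  · ext k
    simp
  · refine CommRingCat.hom_ext (Polynomial.ringHom_ext (fun k => ?_) ?_)
    · simpa using ConcreteCategory.congr_hom h2 k
    · simpa using ConcreteCategory.congr_hom h1 Polynomial.X

theorem finiteType_polynomial (C : CommRingCat.{u}) : (algebraMap C (Polynomial C)).FiniteType :=
  RingHom.finiteType_algebraMap.2 inferInstance

/-! ### Laurent polynomials -/

open LaurentPolynomial

/-- The unit `T`. -/
def unitT (R : Type u) [CommRing R] : (LaurentPolynomial R)ˣ := (LaurentPolynomial.isUnit_T 1).unit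

theorem coe_unitT (R : Type u) [CommRing R] : ((unitT R : (LaurentPolynomial R)ˣ) : LaurentPolynomial R) = T 1 :=
  IsUnit.unit_spec _

theorem laurent_hom_ext {R S : Type u} [CommRing R] [CommRing S] {f g : LaurentPolynomial R →+* S}
    (hC : ∀ r, f (LaurentPolynomial.C r) = g (LaurentPolynomial.C r)) (hT : f (T 1) = g (T 1)) : f = g := by
  refine IsLocalization.ringHom_ext (Submonoid.powers (Polynomial.X : Polynomial R)) ?_
  refine Polynomial.ringHom_ext (fun r => ?_) ?_
  · simpa using hC r
  · simpa using hT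

theorem eval₂_T_one {R S : Type u} [CommRing R] [CommRing S] (f : R →+* S) (x : Sˣ) :
    LaurentPolynomial.eval₂ f x (T 1) = x := by
  simpa using LaurentPolynomial.eval₂_T_n f x 1

theorem isPushout_laurent {C K : CommRingCat.{u}} (γ : C ⟶ K) :
    ∃ δ : CommRingCat.of (LaurentPolynomial C) ⟶ CommRingCat.of (LaurentPolynomial K),
      IsPushout (CommRingCat.ofHom (algebraMap C (LaurentPolynomial C))) γ δ
        (CommRingCat.ofHom (algebraMap K (LaurentPolynomial K))) := by
  refine ⟨CommRingCat.ofHom (LaurentPolynomial.eval₂ (LaurentPolynomial.C.comp γ.hom) (unitT K)), ?_, ⟨?_⟩⟩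
  · refine ⟨CommRingCat.hom_ext (RingHom.ext fun c => ?_)⟩
    show LaurentPolynomial.eval₂ _ _ (algebraMap C (LaurentPolynomial C) c) = algebraMap K (LaurentPolynomial K) (γ.hom c)
    rw [← LaurentPolynomial.C_eq_algebraMap, ← LaurentPolynomial.C_eq_algebraMap, LaurentPolynomial.eval₂_C]
    rfl
  refine PushoutCocone.IsColimit.mk _ (fun s => CommRingCat.ofHom
    (LaurentPolynomial.eval₂ s.inr.hom (Units.map s.inl.hom.toMonoidHom (unitT C)))) (fun s => ?_) (fun s => ?_)
    (fun s m h1 h2 => ?_)
  · refine CommRingCat.hom_ext (laurent_hom_ext (fun c => ?_) ?_)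
    · show LaurentPolynomial.eval₂ _ _ (LaurentPolynomial.eval₂ _ _ (LaurentPolynomial.C c)) = s.inl.hom (LaurentPolynomial.C c)
      rw [LaurentPolynomial.eval₂_C, RingHom.comp_apply, LaurentPolynomial.eval₂_C, LaurentPolynomial.C_eq_algebraMap]
      exact (ConcreteCategory.congr_hom s.condition c).symm
    · show LaurentPolynomial.eval₂ _ _ (LaurentPolynomial.eval₂ _ _ (T 1)) = s.inl.hom (T 1)
      rw [eval₂_T_one, coe_unitT, eval₂_T_one]
      exact congrArg s.inl.hom (coe_unitT C)
  · refine CommRingCat.hom_ext (RingHom.ext fun k => ?_)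
    show LaurentPolynomial.eval₂ _ _ (algebraMap K (LaurentPolynomial K) k) = s.inr.hom k
    rw [← LaurentPolynomial.C_eq_algebraMap, LaurentPolynomial.eval₂_C]
  · refine CommRingCat.hom_ext (laurent_hom_ext (fun k => ?_) ?_)
    · show m.hom (LaurentPolynomial.C k) = LaurentPolynomial.eval₂ _ _ (LaurentPolynomial.C k)
      rw [LaurentPolynomial.eval₂_C, LaurentPolynomial.C_eq_algebraMap]
      exact ConcreteCategory.congr_hom h2 k
    · show m.hom (T 1) = LaurentPolynomial.eval₂ _ _ (T 1)
      rw [eval₂_T_one]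
      have h := ConcreteCategory.congr_hom h1 (T 1)
      change m.hom (LaurentPolynomial.eval₂ _ _ (T 1)) = s.inl.hom (T 1) at h
      rw [eval₂_T_one, coe_unitT] at h
      exact h.trans (congrArg s.inl.hom (coe_unitT C)).symm

theorem finiteType_laurent (C : CommRingCat.{u}) : (algebraMap C (LaurentPolynomial C)).FiniteType := by
  haveI : AddMonoid.FG ℤ := AddGroup.fg_iff_addMonoid_fg.1 inferInstance
  exact RingHom.finiteType_algebraMap.2 inferInstance

end Groth.Agent.ConeFibreLib
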